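import Cfsg.Agent.Lib.H04.Tf.Sig

/-!
# A filtration of `U` by levels of roots: commutators land later than the lower root
-/

set_option autoImplicit false
set_option linter.style.longLine false
set_option linter.unusedSimpArgs false
set_option linter.unusedSectionVars false
set_option linter.unusedVariables false

open Cfsg.Lie Cfsg.Agent.H04.Chev Cfsg.Agent.H04.Tw

namespace Cfsg.Agent.H04.Tf

variable {D : ChevalleyDatum} {T : Tabs} {U : Tabs3}

/-- table facts on a level function on the positive roots -/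
structure ClW (D : ChevalleyDatum) (cl : ℕ → ℕ) (m : ℕ) (L : ℕ → List ℕ) : Prop where
  lt : ∀ r, D.nroots / 2 ≤ r → r < D.nroots → cl r < m
  same : ∀ r, D.nroots / 2 ≤ r → r < D.nroots → ∀ s, D.nroots / 2 ≤ s → s < D.nroots → cl r = cl s → s ≠ r → D.commTerms r s = []
  grow : ∀ r, D.nroots / 2 ≤ r → r < D.nroots → ∀ s, D.nroots / 2 ≤ s → s < D.nroots → cl r < cl s → ∀ c ∈ D.commTerms r s,
    D.nroots / 2 ≤ c.1 ∧ cl r < cl c.1
  mem : ∀ i, i < m → ∀ r, r ∈ L i ↔ (D.nroots / 2 ≤ r ∧ r < D.nroots ∧ cl r = i)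
  nodup : ∀ i, i < m → (L i).Nodup

section chain
variable (C : Checks D T) (C2 : Checks2 D T) (C3 : Checks3 D T U)
variable {K : Type*} [Field K] {cl : ℕ → ℕ} {m : ℕ} {L : ℕ → List ℕ}
variable (hc : ClW D cl m L)

include C C2 C3 hc in
/-- the class lists are commuting lists -/
lemma commL_class {i : ℕ} (hi : i < m) : CommL C K (L i) := by
  intro a ha b hb hab u v
  obtain ⟨a1, a2, a3⟩ := (hc.mem i hi a).mp ha
  obtain ⟨b1, b2, b3⟩ := (hc.mem i hi b).mp hb
  have h0 := hc.same a a1 a2 b b1 b2 (by omega) (Ne.symm hab)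
  have hne : b ≠ negF D a := by
    intro e
    have := negF_neg C2 a1 a2
    omega
  have h1 := xG_comm C a2 b2 (Ne.symm hab) hne u v
  have e2 : D.commWord K a b u v = [] := by
    unfold Cfsg.Lie.ChevalleyDatum.commWord
    rw [h0]
    rfl
  rw [e2] at h1
  simp only [wordG_nil, mul_one] at h1
  exact h1.symm

include C C2 C3 hc in
lemma Xc_normalizes {i : ℕ} {a : GL D.Idx K} (ha : a ∈ Xc C cl i K) :
    a ∈ Subgroup.normalizer (Uc C cl (i + 1) K : Set (GL D.Idx K)) := by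
  unfold Xc RS at ha
  have hle : Subgroup.closure {g : GL D.Idx K | ∃ (r : ℕ) (t : K), r < D.nroots ∧ (D.nroots / 2 ≤ r ∧ cl r = i) ∧ g = xG C r t} ≤
      Subgroup.normalizer (Uc C cl (i + 1) K : Set (GL D.Idx K)) := by
    rw [Subgroup.closure_le]
    rintro _ ⟨r, t, h1, ⟨h2, h3⟩, rfl⟩
    apply xG_mem_normalizer C h1
    rintro s hs ⟨s1, s2⟩
    have hne : s ≠ r := by
      rintro rfl
      omega
    refine ⟨hne, ?_, ?_⟩
    · intro e
      have := negF_neg C2 h2 h1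
      omega
    · intro c hc'
      obtain ⟨g1, g2⟩ := hc.grow r h2 h1 s s1 hs (by omega) c hc'
      exact ⟨comm_lt C C3 hc', g1, by omega⟩
  exact hle ha

include C C2 C3 hc in
/-- one step of the filtration -/
lemma Uc_step {i : ℕ} {g : GL D.Idx K} (hg : g ∈ Uc C cl i K) :
    ∃ a ∈ Xc C cl i K, ∃ b ∈ Uc C cl (i + 1) K, g = a * b := by
  unfold Uc RS at hg
  induction hg using Subgroup.closure_induction with
  | mem x hx =>
    obtain ⟨r, t, h1, ⟨h2, h3⟩, rfl⟩ := hx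
    by_cases h4 : cl r = i
    · exact ⟨xG C r t, xG_mem_RS C h1 ⟨h2, h4⟩ t, 1, one_mem _, by simp⟩
    · exact ⟨1, one_mem _, xG C r t, xG_mem_RS C h1 ⟨h2, by omega⟩ t, by simp⟩
  | one => exact ⟨1, one_mem _, 1, one_mem _, by simp⟩
  | mul x y _ _ hx hy =>
    obtain ⟨a, ha, b, hb, rfl⟩ := hx
    obtain ⟨a', ha', b', hb', rfl⟩ := hy
    have hn := Xc_normalizes C C2 C3 hc (inv_mem ha')
    have h1 : a'⁻¹ * b * a'⁻¹⁻¹ ∈ Uc C cl (i + 1) K := (Subgroup.mem_normalizer_iff.mp hn b).mp hb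
    refine ⟨a * a', mul_mem ha ha', a'⁻¹ * b * a'⁻¹⁻¹ * b', mul_mem h1 hb', ?_⟩
    group
  | inv x _ hx =>
    obtain ⟨a, ha, b, hb, rfl⟩ := hx
    have hn := Xc_normalizes C C2 C3 hc ha
    have h1 : a * b⁻¹ * a⁻¹ ∈ Uc C cl (i + 1) K := (Subgroup.mem_normalizer_iff.mp hn b⁻¹).mp (inv_mem hb)
    refine ⟨a⁻¹, inv_mem ha, a * b⁻¹ * a⁻¹, h1, ?_⟩
    group

include hc in
lemma class_count {R : ℕ → Prop} {i : ℕ} (hi : i < m) (hR : ∀ r ∈ L i, R r) :
    (by classical exact (Finset.univ.filter fun r : Fin D.nroots => D.nroots / 2 ≤ r.1 ∧ cl r.1 = i ∧ R r.1).card) = (L i).length := by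
  classical
  rw [← List.toFinset_card_of_nodup (hc.nodup i hi)]
  apply Finset.card_bij (fun r _ => r.1)
  · intro r hr
    simp only [Finset.mem_filter, Finset.mem_univ, true_and] at hr
    exact List.mem_toFinset.mpr ((hc.mem i hi r.1).mpr ⟨hr.1, r.2, hr.2.1⟩)
  · intro a _ b _ e
    exact Fin.ext e
  · intro b hb
    have hb' := List.mem_toFinset.mp hb
    obtain ⟨h1, h2, h3⟩ := (hc.mem i hi b).mp hb'
    refine ⟨⟨b, h2⟩, ?_, rfl⟩
    simp only [Finset.mem_filter, Finset.mem_univ, true_and]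
    exact ⟨h1, h3, hR b hb'⟩

include hc in
lemma class_count_zero {R : ℕ → Prop} {i : ℕ} (hi : i < m) (hR : ∀ r ∈ L i, ¬ R r) :
    (by classical exact (Finset.univ.filter fun r : Fin D.nroots => D.nroots / 2 ≤ r.1 ∧ cl r.1 = i ∧ R r.1).card) = 0 := by
  classical
  apply Finset.card_eq_zero.mpr
  apply Finset.eq_empty_of_forall_notMem
  intro r hr
  simp only [Finset.mem_filter, Finset.mem_univ, true_and] at hr
  exact hR r.1 ((hc.mem i hi r.1).mpr ⟨hr.1, r.2, hr.2.1⟩) hr.2.2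

include hc in
lemma cn_top (R : ℕ → Prop) : cn D cl R m = 0 := by
  classical
  unfold cn
  apply Finset.card_eq_zero.mpr
  apply Finset.eq_empty_of_forall_notMem
  intro r hr
  simp only [Finset.mem_filter, Finset.mem_univ, true_and] at hr
  have := hc.lt r.1 hr.1 r.2
  omega

include C C2 C3 hc in
/-- the bound for the order of the subgroup of a class -/
lemma card_Xc_le [Fintype K] {i : ℕ} (hi : i < m) : Nat.card (Xc C cl i K) ≤ Fintype.card K ^ (L i).length := by
  classical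
  set l := L i with hl
  have hn : l.Nodup := hc.nodup i hi
  have hcomm : CommL C K l := commL_class C C2 C3 hc hi
  let ext : (↥l.toFinset → K) → ℕ → K := fun t s => if h : s ∈ l.toFinset then t ⟨s, h⟩ else 0
  have hmem : ∀ t : ↥l.toFinset → K, prodL C l (ext t) ∈ Xc C cl i K := by
    intro t
    apply prodL_mem
    intro r hr
    obtain ⟨h1, h2, h3⟩ := (hc.mem i hi r).mp hr
    exact ⟨h2, h1, h3⟩
  let Φ : (↥l.toFinset → K) → ↥(Xc C cl i K) := fun t => ⟨prodL C l (ext t), hmem t⟩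
  have hs : Function.Surjective Φ := by
    rintro ⟨a, ha⟩
    obtain ⟨t, rfl⟩ := exists_prodL C hcomm hn (R := fun r => D.nroots / 2 ≤ r ∧ cl r = i) (by
      rintro r h1 ⟨h2, h3⟩
      exact (hc.mem i hi r).mpr ⟨h2, h1, h3⟩) ha
    refine ⟨fun s => t s.1, Subtype.ext ?_⟩
    apply prodL_congr
    intro s hs
    have : s ∈ l.toFinset := List.mem_toFinset.mpr hs
    simp only [ext]
    rw [dif_pos this]
  have := Nat.card_le_card_of_surjective Φ hs
  rw [Nat.card_fun, Nat.card_eq_fintype_card (α := ↥l.toFinset), Nat.card_eq_fintype_card (α := K), Fintype.card_coe, List.toFinset_card_of_nodup hn] at this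
  exact this


end chain

section chain2
variable (C : Checks D T) (C2 : Checks2 D T) (C3 : Checks3 D T U)
variable {K : Type*} [Field K] [Fintype K] {cl : ℕ → ℕ} {m : ℕ} {L : ℕ → List ℕ}
variable (hc : ClW D cl m L)

omit C2 C3 [Fintype K] in
include hc in
lemma Uc_top : Uc C cl m K = ⊥ := by
  unfold Uc RS
  rw [Subgroup.closure_eq_bot_iff]
  rintro x ⟨r, t, h1, ⟨h2, h3⟩, _⟩
  have := hc.lt r h2 h1
  omega

include C C2 C3 hc in
lemma card_Uc_le_step {i : ℕ} : Nat.card (Uc C cl i K) ≤ Nat.card (Xc C cl i K) * Nat.card (Uc C cl (i + 1) K) := by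
  classical
  have hmem : ∀ x : ↥(Xc C cl i K) × ↥(Uc C cl (i + 1) K), (x.1 : GL D.Idx K) * x.2 ∈ Uc C cl i K := by
    rintro ⟨⟨a, ha⟩, ⟨b, hb⟩⟩
    refine mul_mem ?_ ?_
    · refine (Subgroup.closure_mono ?_) ha
      rintro _ ⟨r, t, h1, ⟨h2, h3⟩, rfl⟩
      exact ⟨r, t, h1, ⟨h2, h3.ge⟩, rfl⟩
    · refine (Subgroup.closure_mono ?_) hb
      rintro _ ⟨r, t, h1, ⟨h2, h3⟩, rfl⟩
      exact ⟨r, t, h1, ⟨h2, by omega⟩, rfl⟩
  let Φ : ↥(Xc C cl i K) × ↥(Uc C cl (i + 1) K) → ↥(Uc C cl i K) := fun x => ⟨_, hmem x⟩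
  have hs : Function.Surjective Φ := by
    rintro ⟨g, hg⟩
    obtain ⟨a, ha, b, hb, rfl⟩ := Uc_step C C2 C3 hc hg
    exact ⟨⟨⟨a, ha⟩, ⟨b, hb⟩⟩, rfl⟩
  have := Nat.card_le_card_of_surjective Φ hs
  rwa [Nat.card_prod] at this

omit C C2 C3 [Fintype K] in
include hc in
lemma cnT_top : cnT D cl m = 0 := cn_top hc _

omit C C2 C3 [Fintype K] in
include hc in
lemma cnT_step {i : ℕ} (hi : i < m) : cnT D cl i = cnT D cl (i + 1) + (L i).length := by
  rw [cnT, cn_step, class_count hc hi (fun _ _ => trivial)]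

include C C2 C3 hc in
lemma card_Uc_le : ∀ k i, i + k = m → Nat.card (Uc C cl i K) ≤ Fintype.card K ^ cnT D cl i := by
  intro k
  induction k with
  | zero =>
    intro i hi
    have : i = m := by omega
    subst this
    rw [Uc_top C hc, cnT_top hc]
    simp
  | succ k ih =>
    intro i hi
    have hi' : i < m := by omega
    refine (card_Uc_le_step C C2 C3 hc).trans ?_
    rw [cnT_step hc hi', pow_add, mul_comm]
    exact Nat.mul_le_mul (ih (i + 1) (by omega)) (card_Xc_le C C2 C3 hc hi')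

include C C2 C3 hc in
/-- the exact orders along the chain -/
lemma card_chain : ∀ i, i ≤ m → Nat.card (Uc C cl i K) = Fintype.card K ^ cnT D cl i ∧
    (i < m → Nat.card (Xc C cl i K) = Fintype.card K ^ (L i).length) := by
  have hq : 0 < Fintype.card K := Fintype.card_pos
  have hU : ∀ i, i ≤ m → Nat.card (Uc C cl i K) = Fintype.card K ^ cnT D cl i := by
    intro i
    induction i with
    | zero =>
      intro _
      rw [Uc_zero C C2, cnT_zero C2, card_posUnipotent C C2]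
    | succ i ih =>
      intro hi
      have hi' : i < m := by omega
      have h1 := ih (by omega)
      have h2 := card_Uc_le_step (K := K) C C2 C3 hc (i := i)
      have h3 := card_Xc_le (K := K) C C2 C3 hc hi'
      have h4 := card_Uc_le (K := K) C C2 C3 hc (m - (i + 1)) (i + 1) (by omega)
      rw [h1, cnT_step hc hi', pow_add] at h2
      by_contra hne
      have h5 : Nat.card (Uc C cl (i + 1) K) < Fintype.card K ^ cnT D cl (i + 1) := lt_of_le_of_ne h4 hne
      have h6 : Nat.card (Xc C cl i K) * Nat.card (Uc C cl (i + 1) K) < Fintype.card K ^ (L i).length * Fintype.card K ^ cnT D cl (i + 1) :=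
        Nat.mul_lt_mul_of_le_of_lt h3 h5 (pow_pos hq _)
      rw [mul_comm (Fintype.card K ^ (L i).length)] at h6
      omega
  intro i hi
  refine ⟨hU i hi, fun hi' => ?_⟩
  have h1 := hU i hi
  have h2 := hU (i + 1) (by omega)
  have h3 := card_Uc_le_step (K := K) C C2 C3 hc (i := i)
  have h4 := card_Xc_le (K := K) C C2 C3 hc hi'
  rw [h1, h2, cnT_step hc hi', pow_add] at h3
  by_contra hne
  have h5 : Nat.card (Xc C cl i K) < Fintype.card K ^ (L i).length := lt_of_le_of_ne h4 hne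
  have h6 := Nat.mul_lt_mul_of_lt_of_le h5 (le_refl (Fintype.card K ^ cnT D cl (i + 1))) (pow_pos hq _)
  rw [mul_comm (Fintype.card K ^ (L i).length)] at h6
  omega

include C C2 C3 hc in
/-- uniqueness of the factorisation -/
lemma Uc_unique {i : ℕ} (hi : i < m) {a a' b b' : GL D.Idx K} (ha : a ∈ Xc C cl i K) (ha' : a' ∈ Xc C cl i K)
    (hb : b ∈ Uc C cl (i + 1) K) (hb' : b' ∈ Uc C cl (i + 1) K) (e : a * b = a' * b') : a = a' ∧ b = b' := by
  classical
  have hmem : ∀ x : ↥(Xc C cl i K) × ↥(Uc C cl (i + 1) K), (x.1 : GL D.Idx K) * x.2 ∈ Uc C cl i K := by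
    rintro ⟨⟨a, ha⟩, ⟨b, hb⟩⟩
    refine mul_mem ?_ ?_
    · refine (Subgroup.closure_mono ?_) ha
      rintro _ ⟨r, t, h1, ⟨h2, h3⟩, rfl⟩
      exact ⟨r, t, h1, ⟨h2, h3.ge⟩, rfl⟩
    · refine (Subgroup.closure_mono ?_) hb
      rintro _ ⟨r, t, h1, ⟨h2, h3⟩, rfl⟩
      exact ⟨r, t, h1, ⟨h2, by omega⟩, rfl⟩
  let Φ : ↥(Xc C cl i K) × ↥(Uc C cl (i + 1) K) → ↥(Uc C cl i K) := fun x => ⟨_, hmem x⟩
  have hs : Function.Surjective Φ := by
    rintro ⟨g, hg⟩
    obtain ⟨a, ha, b, hb, rfl⟩ := Uc_step C C2 C3 hc hg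
    exact ⟨⟨⟨a, ha⟩, ⟨b, hb⟩⟩, rfl⟩
  have hcard : Nat.card (↥(Uc C cl i K)) ≤ Nat.card (↥(Xc C cl i K) × ↥(Uc C cl (i + 1) K)) := by
    rw [Nat.card_prod]; exact card_Uc_le_step C C2 C3 hc
  have hcard2 : Nat.card (↥(Xc C cl i K) × ↥(Uc C cl (i + 1) K)) ≤ Nat.card (↥(Uc C cl i K)) := by
    rw [Nat.card_prod, (card_chain C C2 C3 hc i hi.le).1, (card_chain C C2 C3 hc i hi.le).2 hi, (card_chain C C2 C3 hc (i + 1) hi).1,
      cnT_step hc hi, pow_add, mul_comm]
  have hinj : Function.Injective Φ := (Function.Surjective.bijective_of_nat_card_le hs hcard2).1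
  have := @hinj ⟨⟨a, ha⟩, ⟨b, hb⟩⟩ ⟨⟨a', ha'⟩, ⟨b', hb'⟩⟩ (Subtype.ext e)
  simp only [Prod.mk.injEq, Subtype.mk.injEq] at this
  exact this

include C C2 C3 hc in
/-- uniqueness of the coordinates in a class -/
lemma prodL_inj {i : ℕ} (hi : i < m) {t t' : ℕ → K} (e : prodL C (L i) t = prodL C (L i) t') : ∀ s ∈ L i, t s = t' s := by
  classical
  have hn : (L i).Nodup := hc.nodup i hi
  have hcomm : CommL C K (L i) := commL_class C C2 C3 hc hi
  have hmem : ∀ t : ↥(L i).toFinset → K, prodL C (L i) (extF (L i) t) ∈ Xc C cl i K := by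
    intro t
    apply prodL_mem
    intro r hr
    obtain ⟨h1, h2, h3⟩ := (hc.mem i hi r).mp hr
    exact ⟨h2, h1, h3⟩
  have hs : Function.Surjective (fun t : ↥(L i).toFinset → K => (⟨_, hmem t⟩ : ↥(Xc C cl i K))) := by
    rintro ⟨a, ha⟩
    obtain ⟨t, rfl⟩ := exists_prodL C hcomm hn (R := fun r => D.nroots / 2 ≤ r ∧ cl r = i) (by
      rintro r h1 ⟨h2, h3⟩
      exact (hc.mem i hi r).mpr ⟨h2, h1, h3⟩) ha
    refine ⟨fun s => t s.1, ?_⟩
    apply Subtype.ext
    exact prodL_extF C _ t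
  have hcard : Nat.card (↥(L i).toFinset → K) ≤ Nat.card (↥(Xc C cl i K)) := by
    rw [Nat.card_fun, Nat.card_eq_fintype_card (α := ↥(L i).toFinset), Nat.card_eq_fintype_card (α := K), Fintype.card_coe, List.toFinset_card_of_nodup hn,
      (card_chain C C2 C3 hc i hi.le).2 hi]
  have hinj := (Function.Surjective.bijective_of_nat_card_le hs hcard).1
  have h1 : (⟨_, hmem fun s => t s.1⟩ : ↥(Xc C cl i K)) = ⟨_, hmem fun s => t' s.1⟩ := by
    apply Subtype.ext
    change prodL C (L i) (extF (L i) fun s => t s.1) = prodL C (L i) (extF (L i) fun s => t' s.1)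
    rw [prodL_extF, prodL_extF, e]
  intro s hs'
  exact congrFun (hinj h1) ⟨s, List.mem_toFinset.mpr hs'⟩


end chain2

end Cfsg.Agent.H04.Tf
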