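import Cfsg.Agent.Lib.H04.Tf.CoreF
import Cfsg.Agent.Lib.H04.Tw.Order

/-!
# The order of the groups `²F₄`
-/

set_option autoImplicit false
set_option linter.style.longLine false
set_option linter.unusedSimpArgs false
set_option linter.unusedSectionVars false
set_option linter.unusedVariables false
set_option maxRecDepth 100000
set_option synthInstance.maxHeartbeats 0
set_option synthInstance.maxSize 100000

open Cfsg.Lie Cfsg.Agent.H04.Chev Cfsg.Agent.H04.Tw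
open Cfsg.Agent.H04.Chev.TF4

namespace Cfsg.Agent.H04.Tf

variable {D : ChevalleyDatum} {T : Tabs} {U : Tabs3}

section fr
variable (C : Checks D T) (C2 : Checks2 D T) (C3 : Checks3 D T U)
variable {K : Type*} [Field K] [Fintype K] {cl : ℕ → ℕ} {m : ℕ} {L : ℕ → List ℕ}
variable (hc : ClW D cl m L) {S : SF C K} {θ θ' : K ≃+* K} {r s a b c d : ℕ} (R : ℕ → Prop)

/-- the fixed points of a part of `U` from a level on -/
noncomputable def FR (C : Checks D T) {K : Type*} [Field K] (S : SF C K) (cl : ℕ → ℕ) (R : ℕ → Prop) (i : ℕ) : Subgroup (GL D.Idx K) :=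
  RS C (fun r => D.nroots / 2 ≤ r ∧ i ≤ cl r ∧ R r) K ⊓ SF.Fx S

omit C2 C3 [Fintype K] hc in
lemma FR_anti {i j : ℕ} (h : i ≤ j) : FR C S cl R j ≤ FR C S cl R i := by
  refine inf_le_inf_right _ (Subgroup.closure_mono ?_)
  rintro _ ⟨r, t, h1, ⟨h2, h3, h4⟩, rfl⟩
  exact ⟨r, t, h1, ⟨h2, by omega, h4⟩, rfl⟩

omit C2 C3 [Fintype K] hc in
lemma FR_Uc {i : ℕ} {g : GL D.Idx K} (hg : g ∈ FR C S cl R i) : g ∈ Uc C cl i K := by
  refine (Subgroup.closure_mono ?_) hg.1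
  rintro _ ⟨r, t, h1, ⟨h2, h3, h4⟩, rfl⟩
  exact ⟨r, t, h1, ⟨h2, h3⟩, rfl⟩

variable {R}

omit C2 C3 [Fintype K] in
include hc in
lemma x_RS {i j r : ℕ} (hi : i < m) (hL : L i = [r]) (hj : j ≤ i) (hR : R r) (t : K) :
    xG C r t ∈ RS C (fun r => D.nroots / 2 ≤ r ∧ j ≤ cl r ∧ R r) K := by
  obtain ⟨h1, h2, h3⟩ := (hc.mem i hi r).mp (by rw [hL]; simp)
  exact xG_mem_RS C h2 ⟨h1, by omega, hR⟩ t

include C2 C3 hc in
/-- a lower bound for a step in a class of two roots -/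
theorem pairR {i : ℕ} (hm : i + 1 < m) (hP : PairH S θ θ' r s) (h1 : L i = [r]) (h2 : L (i + 1) = [s]) (hr : R r) (hs : R s)
    (hθ : ∀ t : K, θ' (θ t) = t) : Fintype.card K * Nat.card (FR C S cl R (i + 2)) ≤ Nat.card (FR C S cl R i) := by
  have hmem : ∀ x : K × ↥(FR C S cl R (i + 2)), Ep C θ r s x.1 * x.2 ∈ FR C S cl R i := by
    rintro ⟨t, g, hg⟩
    have hg' := FR_anti C R (i := i) (j := i + 2) (by omega) hg
    exact ⟨mul_mem (mul_mem (x_RS C hc (by omega) h1 le_rfl hr _) (x_RS C hc hm h2 (by omega) hs _)) hg'.1, mul_mem (hP.Ep_Fx hθ t) hg'.2⟩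
  have hinj : Function.Injective (fun x : K × ↥(FR C S cl R (i + 2)) => (⟨_, hmem x⟩ : ↥(FR C S cl R i))) := by
    rintro ⟨t, g, hg⟩ ⟨t', g', hg'⟩ e
    obtain ⟨h3, h4⟩ := pair_unique C C2 C3 hc hm hP h1 h2 (FR_Uc C R hg) (FR_Uc C R hg') (congrArg Subtype.val e)
    subst h3
    subst h4
    rfl
  rw [← Nat.card_eq_fintype_card, ← Nat.card_prod]
  exact Nat.card_le_card_of_injective _ hinj

include C2 C3 hc in
/-- a lower bound for a step in a class of four roots -/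
theorem quadR [CharP K 2] {i : ℕ} (hm : i + 3 < m) (hP : QuadH S θ θ' a b c d) (h1 : L i = [a]) (h2 : L (i + 1) = [b])
    (h3 : L (i + 2) = [c]) (h4 : L (i + 3) = [d]) (ha : R a) (hb : R b) (hc' : R c) (hd : R d)
    (hθ : ∀ t : K, θ' (θ t) = t) (hθ2 : ∀ t : K, θ (θ' t) = t) (hs : ∀ t : K, θ' t = (θ t) ^ 2) :
    Fintype.card K * (Fintype.card K * Nat.card (FR C S cl R (i + 4))) ≤ Nat.card (FR C S cl R i) := by
  have hmem : ∀ x : K × K × ↥(FR C S cl R (i + 4)), Eq C θ θ' a b c d x.1 x.2.1 * x.2.2 ∈ FR C S cl R i := by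
    rintro ⟨t, u, g, hg⟩
    have hg' := FR_anti C R (i := i) (j := i + 4) (by omega) hg
    refine ⟨mul_mem ?_ hg'.1, mul_mem (hP.Eq_Fx hθ hθ2 hs t u) hg'.2⟩
    exact mul_mem (mul_mem (mul_mem (x_RS C hc (by omega) h1 le_rfl ha _) (x_RS C hc (by omega) h2 (by omega) hb _))
      (x_RS C hc (by omega) h3 (by omega) hc' _)) (x_RS C hc hm h4 (by omega) hd _)
  have hinj : Function.Injective (fun x : K × K × ↥(FR C S cl R (i + 4)) => (⟨_, hmem x⟩ : ↥(FR C S cl R i))) := by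
    rintro ⟨t, u, g, hg⟩ ⟨t', u', g', hg'⟩ e
    obtain ⟨e1, e2, e3, e4, e5⟩ := QP_unique C C2 C3 hc hm hP h1 h2 h3 h4 (FR_Uc C R hg) (FR_Uc C R hg') (congrArg Subtype.val e)
    subst e2
    have e6 : u = u' := add_left_cancel e3
    subst e6
    subst e5
    rfl
  rw [← Nat.card_eq_fintype_card, ← Nat.card_prod, ← Nat.card_prod]
  exact Nat.card_le_card_of_injective _ hinj

include C2 C3 hc in
theorem stepP {i : ℕ} (hm : i + 1 < m) (hP : PairH S θ θ' r s) (h1 : L i = [r]) (h2 : L (i + 1) = [s])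
    (hθ : ∀ t : K, θ' (θ t) = t) [Decidable (R r ∧ R s)] :
    Fintype.card K ^ (if R r ∧ R s then 1 else 0) * Nat.card (FR C S cl R (i + 2)) ≤ Nat.card (FR C S cl R i) := by
  split_ifs with h
  · rw [pow_one]
    exact pairR C C2 C3 hc hm hP h1 h2 h.1 h.2 hθ
  · rw [pow_zero, one_mul]
    exact Nat.card_le_card_of_injective _ (Subgroup.inclusion_injective (FR_anti C R (by omega)))

include C2 C3 hc in
theorem stepQ [CharP K 2] {i : ℕ} (hm : i + 3 < m) (hP : QuadH S θ θ' a b c d) (h1 : L i = [a]) (h2 : L (i + 1) = [b])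
    (h3 : L (i + 2) = [c]) (h4 : L (i + 3) = [d])
    (hθ : ∀ t : K, θ' (θ t) = t) (hθ2 : ∀ t : K, θ (θ' t) = t) (hs : ∀ t : K, θ' t = (θ t) ^ 2) [Decidable (R a ∧ R b ∧ R c ∧ R d)] :
    Fintype.card K ^ (if R a ∧ R b ∧ R c ∧ R d then 2 else 0) * Nat.card (FR C S cl R (i + 4)) ≤ Nat.card (FR C S cl R i) := by
  split_ifs with h
  · rw [pow_two, mul_assoc]
    exact quadR C C2 C3 hc hm hP h1 h2 h3 h4 h.1 h.2.1 h.2.2.1 h.2.2.2 hθ hθ2 hs
  · rw [pow_zero, one_mul]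
    exact Nat.card_le_card_of_injective _ (Subgroup.inclusion_injective (FR_anti C R (by omega)))

end fr

end Cfsg.Agent.H04.Tf

namespace Cfsg.Agent.H04.Tf.TF4

/-- the words for the elements of the fixed Weyl group -/
def wt : List (List ℕ) :=
  [[], [0], [1], [0, 1], [1, 0], [0, 1, 0], [1, 0, 1], [0, 1, 0, 1], [1, 0, 1, 0], [0, 1, 0, 1, 0], [1, 0, 1, 0, 1], [0, 1, 0, 1, 0, 1], [1, 0, 1, 0, 1, 0],
    [0, 1, 0, 1, 0, 1, 0], [1, 0, 1, 0, 1, 0, 1], [0, 1, 0, 1, 0, 1, 0, 1]]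

/-- the word in the fundamental reflections -/
def wE (e : ℕ) : List ℕ := (wt.getD e []).flatMap Js

/-- the permutation of the roots -/
noncomputable def Qb (e s : ℕ) : ℕ := applyW chevF4 T (wE e) s

/-- left multiplication -/
def mtT : List (List ℕ) := [[1, 2], [0, 4], [3, 0], [2, 6], [5, 1], [4, 8], [7, 3], [6, 10], [9, 5], [8, 12], [11, 7], [10, 14], [13, 9], [12, 15], [15, 11], [14, 13]]

/-- left multiplication -/
def mt (e j : ℕ) : ℕ := (mtT.getD e []).getD j 0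

theorem mt_tab : ∀ e, e < 16 → ∀ j, j < 2 → mt e j < 16 ∧ ∀ s, s < 48 → Qb (mt e j) s = applyW chevF4 T (Js j) (Qb e s) := by decide +kernel

theorem Qb_zero : ∀ s, s < 48 → Qb 0 s = s := by decide +kernel

theorem Qb_inj : ∀ e, e < 16 → ∀ e', e' < 16 → e ≠ e' → ∃ s, s < 48 ∧ Qb e s ≠ Qb e' s := by decide +kernel

theorem wt_lt : ∀ e, e < 16 → ∀ i ∈ wE e, i < chevF4.rank := by decide +kernel

theorem wt_lt' : ∀ e, e < 16 → ∀ j ∈ wt.getD e [], j < 2 := by decide +kernel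

/-- the exponent for a part of `U` -/
def nR (R : ℕ → Prop) [DecidablePred R] : ℕ :=
  (if R 27 ∧ R 25 ∧ R 28 ∧ R 30 then 2 else 0) + (if R 37 ∧ R 32 then 1 else 0) + (if R 35 ∧ R 31 ∧ R 40 ∧ R 46 then 2 else 0) + (if R 39 ∧ R 45 then 1 else 0) +
    (if R 29 ∧ R 41 ∧ R 44 ∧ R 47 then 2 else 0) + (if R 38 ∧ R 43 then 1 else 0) + (if R 34 ∧ R 26 ∧ R 36 ∧ R 42 then 2 else 0) + (if R 33 ∧ R 24 then 1 else 0)

/-- the exponent -/
noncomputable def nm (e : ℕ) : ℕ := nR (fun r => Qb e r < 24)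

/-- the exponent -/
noncomputable def np (e : ℕ) : ℕ := nR (fun r => 24 ≤ Qb e r)

theorem nm_np : ∀ e, e < 16 → nm e + np e = 12 := by decide +kernel

/-- the table of exponents -/
def nmT : List ℕ := [0, 1, 2, 3, 3, 4, 5, 6, 6, 7, 8, 9, 9, 10, 11, 12]

theorem nm_tab : ∀ e, e < 16 → nm e = nmT.getD e 0 := by decide +kernel

section
variable {K : Type*} [Field K] [Fintype K] [CharP K 2] {m : ℕ}
variable (hK : Fintype.card K = 2 ^ (2 * m + 1))

include hK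

/-- the lower bound for a part of `U` -/
theorem lowerF (R : ℕ → Prop) [DecidablePred R] : Fintype.card K ^ nR R ≤ Nat.card (FR checks (Sg K m) lvl R 0) := by
  have h0 := stepQ (R := R) checks checks2 checks3 clw (S := Sg K m) (i := 0) (by decide) (QuadH_of qt0) rfl rfl rfl rfl (th'_th hK) (th_th' hK) (th_sq m)
  have h4 := stepP (R := R) checks checks2 checks3 clw (S := Sg K m) (i := 4) (by decide) (PairH_of pt1) rfl rfl (th'_th hK)
  have h6 := stepQ (R := R) checks checks2 checks3 clw (S := Sg K m) (i := 6) (by decide) (QuadH_of qt2) rfl rfl rfl rfl (th'_th hK) (th_th' hK) (th_sq m)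
  have h10 := stepP (R := R) checks checks2 checks3 clw (S := Sg K m) (i := 10) (by decide) (PairH_of pt3) rfl rfl (th'_th hK)
  have h12 := stepQ (R := R) checks checks2 checks3 clw (S := Sg K m) (i := 12) (by decide) (QuadH_of qt4) rfl rfl rfl rfl (th'_th hK) (th_th' hK) (th_sq m)
  have h16 := stepP (R := R) checks checks2 checks3 clw (S := Sg K m) (i := 16) (by decide) (PairH_of pt5) rfl rfl (th'_th hK)
  have h18 := stepQ (R := R) checks checks2 checks3 clw (S := Sg K m) (i := 18) (by decide) (QuadH_of qt6) rfl rfl rfl rfl (th'_th hK) (th_th' hK) (th_sq m)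
  have h22 := stepP (R := R) checks checks2 checks3 clw (S := Sg K m) (i := 22) (by decide) (PairH_of pt7) rfl rfl (th'_th hK)
  have h24 : 1 ≤ Nat.card (FR checks (Sg K m) lvl R 24) := Nat.card_pos
  simp only [zero_add, show (4 : ℕ) + 2 = 6 from rfl, show (6 : ℕ) + 4 = 10 from rfl, show (10 : ℕ) + 2 = 12 from rfl, show (12 : ℕ) + 4 = 16 from rfl,
    show (16 : ℕ) + 2 = 18 from rfl, show (18 : ℕ) + 4 = 22 from rfl, show (22 : ℕ) + 2 = 24 from rfl] at h0 h4 h6 h10 h12 h16 h18 h22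
  unfold nR
  set q := Fintype.card K
  generalize (if R 27 ∧ R 25 ∧ R 28 ∧ R 30 then 2 else 0) = a0 at *
  generalize (if R 37 ∧ R 32 then 1 else 0) = a1 at *
  generalize (if R 35 ∧ R 31 ∧ R 40 ∧ R 46 then 2 else 0) = a2 at *
  generalize (if R 39 ∧ R 45 then 1 else 0) = a3 at *
  generalize (if R 29 ∧ R 41 ∧ R 44 ∧ R 47 then 2 else 0) = a4 at *
  generalize (if R 38 ∧ R 43 then 1 else 0) = a5 at *
  generalize (if R 34 ∧ R 26 ∧ R 36 ∧ R 42 then 2 else 0) = a6 at *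
  generalize (if R 33 ∧ R 24 then 1 else 0) = a7 at *
  have hq : 0 < q := Fintype.card_pos
  calc q ^ (a0 + a1 + a2 + a3 + a4 + a5 + a6 + a7) = q ^ a0 * (q ^ a1 * (q ^ a2 * (q ^ a3 * (q ^ a4 * (q ^ a5 * (q ^ a6 * (q ^ a7 * 1))))))) := by ring
    _ ≤ _ := by
      refine le_trans (Nat.mul_le_mul_left _ ?_) h0
      refine le_trans (Nat.mul_le_mul_left _ ?_) h4
      refine le_trans (Nat.mul_le_mul_left _ ?_) h6
      refine le_trans (Nat.mul_le_mul_left _ ?_) h10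
      refine le_trans (Nat.mul_le_mul_left _ ?_) h12
      refine le_trans (Nat.mul_le_mul_left _ ?_) h16
      refine le_trans (Nat.mul_le_mul_left _ ?_) h18
      refine le_trans (Nat.mul_le_mul_left _ ?_) h22
      exact h24

omit hK in
lemma FR_Rm (π : ℕ → ℕ) : RS checks (fun r => chevF4.nroots / 2 ≤ r ∧ 0 ≤ lvl r ∧ π r < 24) K = RS checks (Rminus chevF4 π) K := by
  unfold RS
  congr 1
  ext x
  constructor
  · rintro ⟨r, t, h1, ⟨h2, _, h3⟩, h4⟩
    exact ⟨r, t, h1, ⟨h2, h3⟩, h4⟩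
  · rintro ⟨r, t, h1, ⟨h2, h3⟩, h4⟩
    exact ⟨r, t, h1, ⟨h2, Nat.zero_le _, h3⟩, h4⟩

omit hK in
lemma FR_Rp (π : ℕ → ℕ) : RS checks (fun r => chevF4.nroots / 2 ≤ r ∧ 0 ≤ lvl r ∧ 24 ≤ π r) K = RS checks (Rplus chevF4 π) K := by
  unfold RS
  congr 1
  ext x
  constructor
  · rintro ⟨r, t, h1, ⟨h2, _, h3⟩, h4⟩
    exact ⟨r, t, h1, ⟨h2, h3⟩, h4⟩
  · rintro ⟨r, t, h1, ⟨h2, h3⟩, h4⟩
    exact ⟨r, t, h1, ⟨h2, Nat.zero_le _, h3⟩, h4⟩

/-- the order of the fixed points in the part of `U` made negative -/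
theorem card_Rm {e : ℕ} (he : e < 16) :
    Nat.card ↥(RS checks (Rminus chevF4 (Qb e)) K ⊓ SF.Fx (Sg K m)) = Fintype.card K ^ nm e := by
  classical
  obtain ⟨π', d, hn⟩ := NAct_word (F := K) checks (wt_lt e he)
  have hU : Nat.card ↥(chevF4.posUnipotent K ⊓ SF.Fx (Sg K m)) = Fintype.card K ^ 12 := by
    rw [← FF0_eq]
    exact card_FF0 hK
  have hle1 := lowerF hK (m := m) (fun r => Qb e r < 24)
  have hle2 := lowerF hK (m := m) (fun r => 24 ≤ Qb e r)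
  unfold FR at hle1 hle2
  have hm0 : Nat.card ↥(RS checks (fun r => chevF4.nroots / 2 ≤ r ∧ 0 ≤ lvl r ∧ Qb e r < 24) K ⊓ SF.Fx (Sg K m)) = Nat.card ↥(RS checks (Rminus chevF4 (Qb e)) K ⊓ SF.Fx (Sg K m)) := by
    rw [FR_Rm]
  have hp0 : Nat.card ↥(RS checks (fun r => chevF4.nroots / 2 ≤ r ∧ 0 ≤ lvl r ∧ 24 ≤ Qb e r) K ⊓ SF.Fx (Sg K m)) = Nat.card ↥(RS checks (Rplus chevF4 (Qb e)) K ⊓ SF.Fx (Sg K m)) := by
    rw [FR_Rp]
  rw [hm0] at hle1
  rw [hp0] at hle2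
  have hmem : ∀ x : ↥(RS checks (Rplus chevF4 (Qb e)) K ⊓ SF.Fx (Sg K m)) × ↥(RS checks (Rminus chevF4 (Qb e)) K ⊓ SF.Fx (Sg K m)), (x.1 : GL chevF4.Idx K) * x.2 ∈ chevF4.posUnipotent K ⊓ SF.Fx (Sg K m) := by
    rintro ⟨⟨a, ha⟩, ⟨b, hb⟩⟩
    exact ⟨mul_mem (RS_le_B' checks checks2 (fun r hr => hr.1) ha.1) (RS_le_B' checks checks2 (fun r hr => hr.1) hb.1), mul_mem ha.2 hb.2⟩
  have hinj : Function.Injective (fun x : ↥(RS checks (Rplus chevF4 (Qb e)) K ⊓ SF.Fx (Sg K m)) × ↥(RS checks (Rminus chevF4 (Qb e)) K ⊓ SF.Fx (Sg K m)) => (⟨(x.1 : GL chevF4.Idx K) * x.2, hmem x⟩ : ↥(chevF4.posUnipotent K ⊓ SF.Fx (Sg K m)))) := by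
    rintro ⟨⟨a, ha⟩, ⟨b, hb⟩⟩ ⟨⟨a', ha'⟩, ⟨b', hb'⟩⟩ e0
    have e1 : a * b = a' * b' := congrArg Subtype.val e0
    have e2 : a'⁻¹ * a = b' * b⁻¹ := by
      calc a'⁻¹ * a = a'⁻¹ * (a * b) * b⁻¹ := by group
        _ = a'⁻¹ * (a' * b') * b⁻¹ := by rw [e1]
        _ = _ := by group
    have h1 := conj_Rplus checks checks2 checks3 hn (mul_mem (inv_mem ha'.1) ha.1)
    have h2 : b' * b⁻¹ ∈ RS checks (Rminus chevF4 (Qb e)) K := mul_mem hb'.1 (inv_mem hb.1)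
    have h3 := conj_Rminus checks checks2 checks3 hn h2
    rw [e2] at h1
    have h4 := Subgroup.mem_inf.mpr ⟨U_le_B h1, h3⟩
    rw [borel_inf_neg checks checks2 checks3, Subgroup.mem_bot] at h4
    have h5 : b' * b⁻¹ = 1 := by
      have e5 : b' * b⁻¹ = (nWordG checks K (wE e))⁻¹ * (nWordG checks K (wE e) * (b' * b⁻¹) * (nWordG checks K (wE e))⁻¹) * nWordG checks K (wE e) := by group
      rw [e5, h4]
      group
    have h6 : b' = b := mul_inv_eq_one.mp h5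
    subst h6
    have h7 : a = a' := mul_right_cancel e1
    subst h7
    rfl
  have hprod := Nat.card_le_card_of_injective _ hinj
  rw [Nat.card_prod, hU, ← nm_np e he, pow_add] at hprod
  set A := Fintype.card K ^ nm e with hA
  set B := Fintype.card K ^ np e with hB
  have hq0 : 0 < Fintype.card K := Fintype.card_pos
  have hA0 : 0 < A := pow_pos hq0 _
  have hB0 : 0 < B := pow_pos hq0 _
  by_contra hne
  have hlt : A < Nat.card ↥(RS checks (Rminus chevF4 (Qb e)) K ⊓ SF.Fx (Sg K m)) := lt_of_le_of_ne hle1 (Ne.symm hne)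
  have : B * A < Nat.card ↥(RS checks (Rplus chevF4 (Qb e)) K ⊓ SF.Fx (Sg K m)) * Nat.card ↥(RS checks (Rminus chevF4 (Qb e)) K ⊓ SF.Fx (Sg K m)) :=
    Nat.mul_lt_mul_of_le_of_lt hle2 hlt (lt_of_lt_of_le hB0 hle2)
  have h9 := mul_comm A B
  omega

omit hK [CharP K 2] in
lemma wordP_J_inv {j : ℕ} (hj : j < 2) : (wordP checks (Js j))⁻¹ = wordP checks (Js j) := by
  rw [inv_eq_iff_mul_eq_one]
  ext s
  rw [Equiv.Perm.mul_apply, wordP_apply checks (Js_lt j hj), wordP_apply checks (Js_lt j hj), J_inv j hj _ s.2]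
  rfl

omit hK [Field K] [Fintype K] [CharP K 2] in
/-- the elements of the fixed Weyl group -/
theorem WT_sur {w : Equiv.Perm (Fin chevF4.nroots)} (hw : w ∈ WT checks 2 Js) : ∃ e, e < 16 ∧ ∀ s : Fin chevF4.nroots, ((w s : Fin chevF4.nroots) : ℕ) = Qb e s := by
  unfold WT at hw
  induction hw using Subgroup.closure_induction_left with
  | one => exact ⟨0, by decide, fun s => (Qb_zero s s.2).symm⟩
  | mul_left x hx y _ ih =>
    obtain ⟨j, hj, rfl⟩ := hx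
    obtain ⟨e, he, h1⟩ := ih
    refine ⟨mt e j, (mt_tab e he j hj).1, fun s => ?_⟩
    rw [Equiv.Perm.mul_apply, wordP_apply checks (Js_lt j hj), h1, (mt_tab e he j hj).2 s s.2]
  | inv_mul_cancel x hx y _ ih =>
    obtain ⟨j, hj, rfl⟩ := hx
    obtain ⟨e, he, h1⟩ := ih
    refine ⟨mt e j, (mt_tab e he j hj).1, fun s => ?_⟩
    rw [wordP_J_inv hj, Equiv.Perm.mul_apply, wordP_apply checks (Js_lt j hj), h1, (mt_tab e he j hj).2 s s.2]

/-- the permutation of a fixed element of `N` -/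
theorem N_fix_e {n : GL chevF4.Idx K} (hn : n ∈ chevF4.monomialSubgroup K) (hsn : (Sg K m).f n = n) :
    ∃ e, e < 16 ∧ ∃ π π' d, NAct checks n π π' d ∧ ∀ s, s < chevF4.nroots → π s = Qb e s := by
  have h1 : n ∈ NWT checks 2 Js K := by
    refine N_fix_ind hK (NWT checks 2 Js K) ?_ ?_ hn hsn
    · intro j hj
      obtain ⟨π', e, ha⟩ := NAct_word (F := K) checks (Js_lt j hj)
      exact ⟨_, Subgroup.subset_closure ⟨j, hj, rfl⟩, _, _, _, ha, fun s => wordP_apply checks (Js_lt j hj) s⟩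
    · intro g hg
      have hg1 := (Subgroup.mem_inf.mp hg).1
      rw [diagonal_eq checks checks3] at hg1
      obtain ⟨c, rfl⟩ := mem_HT.mp hg1
      exact ⟨1, one_mem _, _, _, _, NAct_torus (F := K) checks checks3 (capply chevF4 c), fun _ => rfl⟩
  obtain ⟨w, hw, π, π', d, ha, hπ⟩ := h1
  obtain ⟨e, he, h2⟩ := WT_sur hw
  refine ⟨e, he, π, π', d, ha, fun s hs => ?_⟩
  rw [← hπ ⟨s, hs⟩, h2 ⟨s, hs⟩]

/-- the decomposition of `B ⊓ GS` -/
theorem card_BF : Nat.card ↥(chevF4.borelSubgroup K ⊓ GS K m) = Nat.card ↥(chevF4.posUnipotent K ⊓ GS K m) * Nat.card ↥(chevF4.diagonalSubgroup K ⊓ GS K m) := by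
  have hmem : ∀ x : ↥(chevF4.posUnipotent K ⊓ GS K m) × ↥(chevF4.diagonalSubgroup K ⊓ GS K m), (x.1 : GL chevF4.Idx K) * x.2 ∈ chevF4.borelSubgroup K ⊓ GS K m := by
    rintro ⟨⟨a, ha⟩, ⟨b, hb⟩⟩
    exact Subgroup.mem_inf.mpr ⟨mul_mem (U_le_B (Subgroup.mem_inf.mp ha).1) (H_le_B (Subgroup.mem_inf.mp hb).1), mul_mem (Subgroup.mem_inf.mp ha).2 (Subgroup.mem_inf.mp hb).2⟩
  have hbij : Function.Bijective (fun x : ↥(chevF4.posUnipotent K ⊓ GS K m) × ↥(chevF4.diagonalSubgroup K ⊓ GS K m) => (⟨(x.1 : GL chevF4.Idx K) * x.2, hmem x⟩ : ↥(chevF4.borelSubgroup K ⊓ GS K m))) := by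
    constructor
    · rintro ⟨⟨a, ha⟩, ⟨b, hb⟩⟩ ⟨⟨a', ha'⟩, ⟨b', hb'⟩⟩ e
      have e1 : a * b = a' * b' := congrArg Subtype.val e
      have e2 : a'⁻¹ * a = b' * b⁻¹ := by
        calc a'⁻¹ * a = a'⁻¹ * (a * b) * b⁻¹ := by group
          _ = a'⁻¹ * (a' * b') * b⁻¹ := by rw [e1]
          _ = _ := by group
      have h1 : b' * b⁻¹ ∈ chevF4.posUnipotent K ⊓ chevF4.diagonalSubgroup K :=
        Subgroup.mem_inf.mpr ⟨e2 ▸ mul_mem (inv_mem (Subgroup.mem_inf.mp ha').1) (Subgroup.mem_inf.mp ha).1, mul_mem (Subgroup.mem_inf.mp hb').1 (inv_mem (Subgroup.mem_inf.mp hb).1)⟩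
      rw [pos_inf_H checks checks2 checks3, Subgroup.mem_bot] at h1
      have h6 : b' = b := mul_inv_eq_one.mp h1
      subst h6
      have h7 : a = a' := mul_right_cancel e1
      subst h7
      rfl
    · rintro ⟨g, hg⟩
      obtain ⟨hg1, hg2⟩ := Subgroup.mem_inf.mp hg
      obtain ⟨a, ha, b, hb, e⟩ := (mem_borel_iff checks checks2 checks3).mp hg1
      have hsg : (Sg K m).f g = g := ((mem_GS_iff hK).mp hg2).1
      have hag := U_le_group checks ha
      have hbg := H_le_group checks hb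
      have hsa := SF.f_U checks checks2 (Sg K m) (sftS m) ha
      have hsb := SF.f_H checks checks3 (Sg K m) (sftS m) hb
      have e1 : (Sg K m).f a * (Sg K m).f b = a * b := by
        rw [← (Sg K m).f_mul hag hbg, ← e, hsg]
      have e2 : a⁻¹ * (Sg K m).f a = b * ((Sg K m).f b)⁻¹ := by
        calc a⁻¹ * (Sg K m).f a = a⁻¹ * ((Sg K m).f a * (Sg K m).f b) * ((Sg K m).f b)⁻¹ := by group
          _ = a⁻¹ * (a * b) * ((Sg K m).f b)⁻¹ := by rw [e1]
          _ = _ := by group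
      have h1 : b * ((Sg K m).f b)⁻¹ ∈ chevF4.posUnipotent K ⊓ chevF4.diagonalSubgroup K :=
        Subgroup.mem_inf.mpr ⟨e2 ▸ mul_mem (inv_mem ha) hsa, mul_mem hb (inv_mem hsb)⟩
      rw [pos_inf_H checks checks2 checks3, Subgroup.mem_bot] at h1
      have h6 : b = (Sg K m).f b := mul_inv_eq_one.mp h1
      have h7 : a = (Sg K m).f a := by
        have : (Sg K m).f a * b = a * b := by
          conv_lhs => rw [h6]
          exact e1
        exact (mul_right_cancel this).symm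
      have mem1 : a ∈ GS K m := (mem_GS_iff hK).mpr ⟨h7.symm, hag⟩
      have mem2 : b ∈ GS K m := (mem_GS_iff hK).mpr ⟨h6.symm, hbg⟩
      exact ⟨⟨⟨a, Subgroup.mem_inf.mpr ⟨ha, mem1⟩⟩, ⟨b, Subgroup.mem_inf.mpr ⟨hb, mem2⟩⟩⟩, Subtype.ext e.symm⟩
  rw [← Nat.card_prod]
  exact (Nat.card_congr (Equiv.ofBijective _ hbij)).symm

/-- The order of the group -/
theorem card_GSF : Nat.card ↥(GS K m) = Nat.card ↥(chevF4.borelSubgroup K ⊓ GS K m) * ∑ e ∈ Finset.range 16, Fintype.card K ^ nm e := by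
  classical
  have hAct : ∀ e : Fin 16, ∃ π' d, NAct (F := K) checks (nWordG checks K (wE e)) (Qb e) π' d := fun e => NAct_word (F := K) checks (wt_lt e e.2)
  choose π'f df hrepA using hAct
  let rep : Fin 16 → GL chevF4.Idx K := fun e => nWordG checks K (wE e)
  have hrepS : ∀ e, rep e ∈ GS K m := fun e => nFlat_GS hK
  have hrepN : ∀ e, rep e ∈ chevF4.monomialSubgroup K := fun e => nWordG_mem checks checks3 (wt_lt e e.2)
  have hreps : ∀ e, (Sg K m).f (rep e) = rep e := fun e => ((mem_GS_iff hK).mp (hrepS e)).1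
  have hRB : ∀ {π : ℕ → ℕ}, RS checks (Rminus chevF4 π) K ≤ chevF4.borelSubgroup K := fun {π} => RS_Rminus_le_B checks checks2 checks3
  have hmem : ∀ x : (Σ e : Fin 16, ↥(chevF4.borelSubgroup K ⊓ GS K m) × ↥(RS checks (Rminus chevF4 (Qb e)) K ⊓ SF.Fx (Sg K m))),
      x.2.1.1 * rep x.1 * x.2.2.1 ∈ GS K m := by
    rintro ⟨w, ⟨b, hb⟩, ⟨u, hu⟩⟩
    have hb' := Subgroup.mem_inf.mp hb
    have hu' := Subgroup.mem_inf.mp hu
    refine mul_mem (mul_mem hb'.2 (hrepS w)) ((mem_GS_iff hK).mpr ⟨hu'.2.2, hu'.2.1⟩)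
  let Ψ : (Σ e : Fin 16, ↥(chevF4.borelSubgroup K ⊓ GS K m) × ↥(RS checks (Rminus chevF4 (Qb e)) K ⊓ SF.Fx (Sg K m))) → ↥(GS K m) := fun x => ⟨_, hmem x⟩
  have hbij : Function.Bijective Ψ := by
    constructor
    · rintro ⟨w, ⟨b, hb⟩, ⟨u, hu⟩⟩ ⟨w', ⟨b', hb'⟩, ⟨u', hu'⟩⟩ e
      have e1 : b * rep w * u = b' * rep w' * u' := congrArg Subtype.val e
      have hb1 := Subgroup.mem_inf.mp hb
      have hb1' := Subgroup.mem_inf.mp hb'
      have hu1 := Subgroup.mem_inf.mp hu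
      have hu1' := Subgroup.mem_inf.mp hu'
      have h1 := dc_unique checks checks2 checks3 hb1.1 hb1'.1 (hrepN w) (hrepN w') (hRB hu1.1) (hRB hu1'.1) e1
      have hww : w = w' := by
        rw [diagonal_eq checks checks3] at h1
        obtain ⟨c, hc'⟩ := mem_HT.mp h1
        have a₁ := (hrepA w).mul (NAct_torus (F := K) checks checks3 (capply chevF4 c))
        have a₂ : NAct (F := K) checks (rep w * hProd U chevF4 c) _ _ _ := a₁
        rw [← hc', mul_inv_cancel_left] at a₂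
        by_contra hne
        have hne' : (w : ℕ) ≠ w' := fun h => hne (Fin.ext h)
        obtain ⟨s, hs, hs2⟩ := Qb_inj w w.2 w' w'.2 hne'
        exact hs2 (NAct.perm_unique a₂ (hrepA w') hs)
      subst hww
      obtain ⟨h3, h4⟩ := bruhat_unique_fixed checks checks2 checks3 (hrepA w) hb1.1 hb1'.1 hu1.1 hu1'.1 e1
      subst h3
      subst h4
      rfl
    · rintro ⟨g, hg⟩
      obtain ⟨hg1, hg2⟩ := (mem_GS_iff hK).mp hg
      obtain ⟨u₁, h1, h2, n, h3, h4, π, π', e, ha, u₂, h5, h6, e0⟩ := fix_bruhat' checks checks2 checks3 (Sg K m) (sftS m) hg2 hg1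
      obtain ⟨e₀, he, ρ, ρ', d', h', hρ⟩ := N_fix_e hK h3 h4
      set w₀ : Fin 16 := ⟨e₀, he⟩ with hw₀
      have hπ : ∀ s, s < chevF4.nroots → Qb w₀ s = π s := by
        intro s hs
        rw [← NAct.perm_unique h' ha hs, hρ s hs]
      have hu' : u₂ ∈ RS checks (Rminus chevF4 (Qb w₀)) K := by
        rw [RS_Rminus_congr checks hπ]
        exact h5
      have a₁ := ha.mul (hrepA w₀).inv
      have hH : n * (rep w₀)⁻¹ ∈ chevF4.diagonalSubgroup K := by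
        apply mem_H_of_pos checks checks2 checks3 (mul_mem h3 (inv_mem (hrepN w₀))) a₁
        intro r hr1 hr2
        simp only [Function.comp]
        have h7 := (hrepA w₀).right r hr2
        rw [hπ _ ((hrepA w₀).lt' r hr2)] at h7
        rw [h7]
        exact hr1
      have hng := N_le_group checks h3
      have hrg := N_le_group checks (hrepN w₀)
      have hfxb : (Sg K m).f (u₁ * (n * (rep w₀)⁻¹)) = u₁ * (n * (rep w₀)⁻¹) := by
        rw [(Sg K m).f_mul (U_le_group checks h1) (mul_mem hng (inv_mem hrg)), (Sg K m).f_mul hng (inv_mem hrg), SF.f_inv _ hrg, h2, h4, hreps]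
      have hbB : u₁ * (n * (rep w₀)⁻¹) ∈ chevF4.borelSubgroup K := mul_mem (U_le_B h1) (H_le_B hH)
      have hu2g : u₂ ∈ chevF4.group K := B_le_group checks (hRB h5)
      refine ⟨⟨w₀, ⟨u₁ * (n * (rep w₀)⁻¹), Subgroup.mem_inf.mpr ⟨hbB, (mem_GS_iff hK).mpr ⟨hfxb, B_le_group checks hbB⟩⟩⟩, ⟨u₂, Subgroup.mem_inf.mpr ⟨hu', hu2g, h6⟩⟩⟩, ?_⟩
      apply Subtype.ext
      show u₁ * (n * (rep w₀)⁻¹) * rep w₀ * u₂ = g
      rw [e0]
      group
  rw [← Nat.card_congr (Equiv.ofBijective Ψ hbij), Nat.card_sigma]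
  have hcard : ∀ w : Fin 16, Nat.card (↥(chevF4.borelSubgroup K ⊓ GS K m) × ↥(RS checks (Rminus chevF4 (Qb w)) K ⊓ SF.Fx (Sg K m))) =
      Nat.card ↥(chevF4.borelSubgroup K ⊓ GS K m) * Fintype.card K ^ nm w := by
    intro w
    rw [Nat.card_prod, card_Rm hK w.2]
  simp only [hcard]
  rw [← Finset.mul_sum]
  congr 1

/-- The order of the groups `²F₄` -/
theorem card_GF4 : Nat.card ↥(GS K m) =
    (2 ^ (2 * m + 1)) ^ 12 * (2 ^ (2 * m + 1) - 1) * ((2 ^ (2 * m + 1)) ^ 3 + 1) * ((2 ^ (2 * m + 1)) ^ 4 - 1) * ((2 ^ (2 * m + 1)) ^ 6 + 1) := by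
  rw [card_GSF hK, card_BF hK, card_U hK, card_H hK]
  have hsum : ∑ e ∈ Finset.range 16, Fintype.card K ^ nm e = ∑ e ∈ Finset.range 16, Fintype.card K ^ nmT.getD e 0 :=
    Finset.sum_congr rfl (fun e he => by rw [nm_tab e (Finset.mem_range.mp he)])
  rw [hsum, hK]
  simp only [Finset.sum_range_succ, Finset.sum_range_zero]
  have hT : nmT = [0, 1, 2, 3, 3, 4, 5, 6, 6, 7, 8, 9, 9, 10, 11, 12] := rfl
  rw [hT]
  simp only [List.getD_cons_zero, List.getD_cons_succ]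
  set q : ℕ := 2 ^ (2 * m + 1) with hq
  have hq1 : 1 ≤ q := Nat.one_le_two_pow
  have h4 : 1 ≤ q ^ 4 := Nat.one_le_pow _ _ hq1
  zify [hq1, h4]
  ring

end

end Cfsg.Agent.H04.Tf.TF4
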